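import Mathlib

/-!
# The kernel of `C_h ⊗_A C → C_h` is generated by an idempotent when `C_h` is unramified (helper1)
-/

set_option autoImplicit false
set_option linter.style.haveILetI false

namespace Groth.Agent.Lib.Helper1.FittEtale

open TensorProduct

universe u

/-- For an unramified algebra: an element `t` of `B ⊗ B` with `lmul' t = 1` killing the kernel
of multiplication. -/
theorem exists_sepElem (A B : Type*) [CommRing A] [CommRing B] [Algebra A B]
    [Algebra.EssFiniteType A B] [Algebra.FormallyUnramified A B] :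
    ∃ t : B ⊗[A] B, Algebra.TensorProduct.lmul' A t = 1 ∧
      ∀ y : B ⊗[A] B, Algebra.TensorProduct.lmul' A y = 0 → y * t = 0 := by
  obtain ⟨t, ht, ht1⟩ := (Algebra.FormallyUnramified.iff_exists_tensorProduct (R := A) (S := B)).mp
    inferInstance
  refine ⟨t, ht1, ?_⟩
  have key : ∀ y : B ⊗[A] B, y * t = (Algebra.TensorProduct.lmul' A y ⊗ₜ[A] (1 : B)) * t := by
    intro y
    induction y using TensorProduct.induction_on with
    | zero => simp
    | tmul a b =>
      have h1 := ht b
      rw [sub_mul, sub_eq_zero] at h1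
      have : a ⊗ₜ[A] b = (a ⊗ₜ[A] (1 : B)) * ((1 : B) ⊗ₜ[A] b) := by
        simp
      rw [this, mul_assoc, h1, ← mul_assoc]
      simp [mul_comm]
    | add x y hx hy => rw [add_mul, hx, hy, map_add, TensorProduct.add_tmul, add_mul]
  intro y hy
  rw [key y, hy, TensorProduct.zero_tmul, zero_mul]


section Idem

variable {A C : Type u} [CommRing A] [CommRing C] [Algebra A C] (h : C)

/-- the multiplication map `C_h ⊗ C → C_h`. -/
noncomputable def muHom :
    (Localization.Away h) ⊗[A] C →ₐ[Localization.Away h] Localization.Away h :=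
  Algebra.TensorProduct.lift (AlgHom.id _ _) (IsScalarTower.toAlgHom A C (Localization.Away h))
    (fun _ _ => Commute.all _ _)

@[simp]
theorem muHom_tmul (b : Localization.Away h) (c : C) :
    muHom (A := A) h (b ⊗ₜ c) = b * algebraMap C _ c := by
  simp [muHom]

theorem muHom_surjective : Function.Surjective (muHom (A := A) h) := fun b =>
  ⟨b ⊗ₜ 1, by simp⟩

/-- the localization map `C_h ⊗ C → C_h ⊗ C_h`. -/
noncomputable def lamHom :
    (Localization.Away h) ⊗[A] C →ₐ[Localization.Away h]
      (Localization.Away h) ⊗[A] (Localization.Away h) :=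
  Algebra.TensorProduct.map (AlgHom.id _ _) (IsScalarTower.toAlgHom A C (Localization.Away h))

@[simp]
theorem lamHom_tmul (b : Localization.Away h) (c : C) :
    lamHom (A := A) h (b ⊗ₜ c) = b ⊗ₜ algebraMap C _ c := by
  simp [lamHom]

theorem lmul'_lamHom (x : (Localization.Away h) ⊗[A] C) :
    Algebra.TensorProduct.lmul' A (lamHom (A := A) h x) = muHom (A := A) h x := by
  induction x using TensorProduct.induction_on with
  | zero => simp
  | tmul b c => simp
  | add x y hx hy => simp [hx, hy]

theorem isLocalization_lam :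
    letI := (lamHom (A := A) h).toRingHom.toAlgebra
    IsLocalization ((Submonoid.powers h).map
      (Algebra.TensorProduct.includeRight (R := A) (A := Localization.Away h) (B := C)))
      ((Localization.Away h) ⊗[A] (Localization.Away h)) := by
  let := (lamHom (A := A) h).toRingHom.toAlgebra
  haveI : IsScalarTower (Localization.Away h) ((Localization.Away h) ⊗[A] C)
      ((Localization.Away h) ⊗[A] (Localization.Away h)) :=
    ⟨fun b x y => by
      rw [Algebra.smul_def x y, Algebra.smul_def (b • x) y, RingHom.algebraMap_toAlgebra]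
      simp only [AlgHom.toRingHom_eq_coe, RingHom.coe_coe, map_smul, smul_mul_assoc]⟩
  exact IsLocalization.tensorProduct_tensorProduct_right A (Localization.Away h)
    (Submonoid.powers h) (Localization.Away h) (by
      ext c
      simp [RingHom.algebraMap_toAlgebra])

theorem exists_idem [Algebra.FinitePresentation A C]
    [Algebra.FormallyUnramified A (Localization.Away h)] :
    ∃ e : (Localization.Away h) ⊗[A] C, IsIdempotentElem e ∧
      RingHom.ker (muHom (A := A) h) = Ideal.span {e} := by
  have hfg : (RingHom.ker (muHom (A := A) h)).FG :=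
    Algebra.FinitePresentation.ker_fG_of_surjective (muHom (A := A) h) (muHom_surjective h)
  rw [← Ideal.isIdempotentElem_iff_of_fg _ hfg]
  apply le_antisymm Ideal.mul_le_right
  intro x hx
  obtain ⟨t, ht1, ht0⟩ := exists_sepElem A (Localization.Away h)
  letI := (lamHom (A := A) h).toRingHom.toAlgebra
  haveI := isLocalization_lam (A := A) h
  have halg : ∀ z, algebraMap ((Localization.Away h) ⊗[A] C)
      ((Localization.Away h) ⊗[A] (Localization.Away h)) z = lamHom (A := A) h z := fun z => rfl
  obtain ⟨⟨τ, m⟩, hτ⟩ := IsLocalization.surj ((Submonoid.powers h).map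
      (Algebra.TensorProduct.includeRight (R := A) (A := Localization.Away h) (B := C))) t
  obtain ⟨_, ⟨n, rfl⟩, hm⟩ := m.2
  simp only [halg] at hτ
  -- `lam (τ * x) = 0`
  have h0 : lamHom (A := A) h (τ * x) = 0 := by
    rw [map_mul, ← hτ, mul_comm t, mul_assoc, mul_comm t]
    rw [ht0 _ (by rw [lmul'_lamHom]; exact hx), mul_zero]
  rw [← halg, IsLocalization.map_eq_zero_iff ((Submonoid.powers h).map
      (Algebra.TensorProduct.includeRight (R := A) (A := Localization.Away h) (B := C)))] at h0
  obtain ⟨⟨_, _, ⟨j, rfl⟩, rfl⟩, hj⟩ := h0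
  simp only [Algebra.TensorProduct.includeRight_apply] at hj hm
  -- the element `w`
  set w : (Localization.Away h) ⊗[A] C := ((1 : Localization.Away h) ⊗ₜ[A] (h ^ j)) * τ with hw
  have hwx : w * x = 0 := by rw [hw, mul_assoc]; exact hj
  have hμτ : muHom (A := A) h τ = algebraMap C (Localization.Away h) h ^ n := by
    rw [← lmul'_lamHom, ← hτ, map_mul, ht1, one_mul, ← hm, lmul'_lamHom]
    simp
  have hμw : muHom (A := A) h w = algebraMap C (Localization.Away h) h ^ (j + n) := by
    rw [hw, map_mul, hμτ, pow_add]
    simp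
  have hu : IsUnit (algebraMap C (Localization.Away h) h ^ (j + n)) :=
    (IsLocalization.Away.algebraMap_isUnit h).pow _
  obtain ⟨u, hu⟩ := hu
  set w' : (Localization.Away h) ⊗[A] C := (((u⁻¹ : (Localization.Away h)ˣ) : Localization.Away h) ⊗ₜ[A] (1 : C)) * w with hw'
  have hμw' : muHom (A := A) h w' = 1 := by
    rw [hw', map_mul, hμw, ← hu]
    simp
  have hw'x : w' * x = 0 := by rw [hw', mul_assoc, hwx, mul_zero]
  have he : 1 - w' ∈ RingHom.ker (muHom (A := A) h) := by
    rw [RingHom.mem_ker, map_sub, map_one, hμw', sub_self]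
  have : x = (1 - w') * x := by rw [sub_mul, one_mul, hw'x, sub_zero]
  rw [this]
  exact Ideal.mul_mem_mul he hx

end Idem

end Groth.Agent.Lib.Helper1.FittEtale
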