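import Mathlib
import Groth.Agent.Lib.Helper10.Fitting

/-!
# `Fit_0((R/J) × N) = J · Fit_0(N)` (helper1)
-/

set_option autoImplicit false

namespace Groth.Agent.Lib.Helper1.FittEtale

open Groth.Agent.Lib.Helper10.Fitting Matrix

variable {R : Type*} [CommRing R] {N : Type*} [AddCommGroup N] [Module R N]

theorem nonRelCard_le_zero_iff {M : Type*} [AddCommGroup M] [Module R M]
    {ι : Type*} [Fintype ι] (x : ι → M) (a : Matrix ι ι R) :
    nonRelCard x a ≤ 0 ↔ ∀ i, a i ∈ Rel R x := by
  classical
  unfold nonRelCard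
  rw [Nat.le_zero, Finset.card_eq_zero, Finset.filter_eq_empty_iff]
  simp

/-- the generating tuple of `(R ⧸ J) × N` built from a generating tuple of `N`. -/
def consTuple (J : Ideal R) {n : ℕ} (y : Fin n → N) : Fin (n + 1) → (R ⧸ J) × N :=
  Fin.cons ((1 : R ⧸ J), (0 : N)) (fun k => ((0 : R ⧸ J), y k))

theorem span_consTuple (J : Ideal R) {n : ℕ} (y : Fin n → N)
    (hy : Submodule.span R (Set.range y) = ⊤) :
    Submodule.span R (Set.range (consTuple J y)) = ⊤ := by
  rw [eq_top_iff]
  rintro ⟨a, b⟩ -
  have h1 : ((a, 0) : (R ⧸ J) × N) ∈ Submodule.span R (Set.range (consTuple J y)) := by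
    obtain ⟨r, rfl⟩ := Ideal.Quotient.mk_surjective a
    have : ((Ideal.Quotient.mk J r, 0) : (R ⧸ J) × N) = r • consTuple J y 0 := by
      simp [consTuple, Prod.smul_mk, Algebra.smul_def]
    rw [this]
    exact Submodule.smul_mem _ _ (Submodule.subset_span ⟨0, rfl⟩)
  have h2 : ((0, b) : (R ⧸ J) × N) ∈ Submodule.span R (Set.range (consTuple J y)) := by
    have hb : b ∈ Submodule.span R (Set.range y) := by rw [hy]; trivial
    induction hb using Submodule.span_induction with
    | mem x hx =>
      obtain ⟨k, rfl⟩ := hx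
      exact Submodule.subset_span ⟨k.succ, by simp [consTuple]⟩
    | zero => exact Submodule.zero_mem _
    | add u v _ _ hu hv =>
      have : ((0, u + v) : (R ⧸ J) × N) = (0, u) + (0, v) := by simp
      rw [this]; exact Submodule.add_mem _ hu hv
    | smul c u _ hu =>
      have : ((0, c • u) : (R ⧸ J) × N) = c • (0, u) := by simp
      rw [this]; exact Submodule.smul_mem _ _ hu
  have : ((a, b) : (R ⧸ J) × N) = (a, 0) + (0, b) := by simp
  rw [this]
  exact Submodule.add_mem _ h1 h2

theorem mem_Rel_consTuple (J : Ideal R) {n : ℕ} (y : Fin n → N) (v : Fin (n + 1) → R) :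
    v ∈ Rel R (consTuple J y) ↔ v 0 ∈ J ∧ Fin.tail v ∈ Rel R y := by
  rw [mem_Rel, mem_Rel, Fin.sum_univ_succ]
  have h0 : v 0 • consTuple J y 0 = ((Ideal.Quotient.mk J (v 0), 0) : (R ⧸ J) × N) := by
    simp [consTuple, Prod.smul_mk, Algebra.smul_def]
  have h1 : ∀ k : Fin n, v k.succ • consTuple J y k.succ = ((0, v k.succ • y k) : (R ⧸ J) × N) := by
    intro k
    simp [consTuple, Prod.smul_mk]
  rw [h0]
  simp_rw [h1]
  have h2 : ∑ k : Fin n, ((0, v k.succ • y k) : (R ⧸ J) × N) = (0, ∑ k : Fin n, v k.succ • y k) := by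
    ext
    · simp [Prod.fst_sum]
    · simp [Prod.snd_sum]
  rw [h2, Prod.mk_add_mk, add_zero, zero_add, Prod.mk_eq_zero, Ideal.Quotient.eq_zero_iff_mem]
  rfl

theorem G_consTuple (J : Ideal R) {n : ℕ} (y : Fin n → N) :
    G R (consTuple J y) 0 = J * G R y 0 := by
  apply le_antisymm
  · rw [G_le_iff]
    intro a ha
    rw [nonRelCard_le_zero_iff] at ha
    rw [Matrix.det_succ_column_zero]
    refine Ideal.sum_mem _ fun i _ => ?_
    have h1 : a i 0 ∈ J := ((mem_Rel_consTuple J y (a i)).mp (ha i)).1
    have h2 : (a.submatrix i.succAbove Fin.succ).det ∈ G R y 0 := by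
      apply det_mem_G
      rw [nonRelCard_le_zero_iff]
      intro k
      exact ((mem_Rel_consTuple J y (a (i.succAbove k))).mp (ha _)).2
    rw [mul_assoc]
    exact Ideal.mul_mem_left _ _ (Ideal.mul_mem_mul h1 h2)
  · rw [Ideal.mul_le]
    intro j hj g hg
    unfold G at hg
    induction hg using Submodule.span_induction with
    | mem g hg =>
      obtain ⟨V, hV, rfl⟩ := hg
      rw [nonRelCard_le_zero_iff] at hV
      let T : Matrix (Fin (n + 1)) (Fin (n + 1)) R :=
        Matrix.of (Fin.cons (Fin.cons j 0) (fun i => Fin.cons 0 (V i)))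
      have hT : T.det = j * V.det := by
        rw [Matrix.det_succ_row_zero, Fin.sum_univ_succ]
        have h0 : T.submatrix Fin.succ (Fin.succAbove 0) = V := by
          ext i k
          simp [T]
        rw [h0]
        have h1 : ∀ k : Fin n, T 0 k.succ = 0 := by
          intro k
          simp [T]
        simp [h1, T]
      rw [← hT]
      apply det_mem_G
      rw [nonRelCard_le_zero_iff]
      intro i
      rw [mem_Rel_consTuple]
      refine Fin.cases ?_ (fun i => ?_) i
      · refine ⟨by simpa [T] using hj, ?_⟩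
        have : Fin.tail (T 0) = 0 := by
          ext k
          simp [T, Fin.tail]
        rw [this]
        exact Submodule.zero_mem _
      · refine ⟨by simp [T], ?_⟩
        have : Fin.tail (T i.succ) = V i := by
          ext k
          simp [T, Fin.tail]
        rw [this]
        exact hV i
    | zero => simp
    | add u v _ _ hu hv => rw [mul_add]; exact Ideal.add_mem _ hu hv
    | smul c u _ hu =>
      rw [smul_eq_mul, mul_left_comm]
      exact Ideal.mul_mem_left _ _ hu

/-- `Fit_0((R/J) × N) = J · Fit_0(N)`. -/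
theorem fitt_zero_quot_prod (J : Ideal R) [Module.Finite R N] :
    Fitt.ideal R ((R ⧸ J) × N) 0 = J * Fitt.ideal R N 0 := by
  classical
  obtain ⟨n, y, hy⟩ := Module.Finite.exists_fin (R := R) (M := N)
  rw [fitt_eq_G (consTuple J y) (span_consTuple J y hy) 0, fitt_eq_G y hy 0, G_consTuple]

end Groth.Agent.Lib.Helper1.FittEtale
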