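import Mathlib
import Groth.Agent.Lib.Helper10.Fitting
import Groth.Agent.Lib.Helper1.FittEtale.Prod
import Groth.Agent.Lib.Helper1.FittEtale.Idem
import Groth.Agent.S6892
import Groth.Prelude.Def_FlatCA

/-!
# Stacks 0812: `Fit_0(C/J) C_h = J C_h · J'` for `C` finite projective over `A`, `C_h` étale (helper1)
-/

set_option autoImplicit false
set_option linter.style.haveILetI false

namespace Groth.Agent.Lib.Helper1.FittEtale

open TensorProduct Groth.Agent.Lib.Helper10.Fitting

universe u

section General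

variable {B D : Type*} [CommRing B] [CommRing D] [Algebra B D]

/-- CRT for an idempotent, `B`-linearly. -/
theorem nonempty_quot_prod (e : D) (he : IsIdempotentElem e) (𝔞 : Ideal D) :
    Nonempty ((D ⧸ 𝔞) ≃ₗ[B] (D ⧸ (Ideal.span {e} ⊔ 𝔞)) × (D ⧸ (Ideal.span {1 - e} ⊔ 𝔞))) := by
  set I₁ := Ideal.span {e} ⊔ 𝔞 with hI₁
  set I₂ := Ideal.span {1 - e} ⊔ 𝔞 with hI₂
  have he1 : e ∈ I₁ := Ideal.mem_sup_left (Ideal.subset_span rfl)
  have he2 : 1 - e ∈ I₂ := Ideal.mem_sup_left (Ideal.subset_span rfl)
  have hcop : IsCoprime I₁ I₂ := by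
    rw [Ideal.isCoprime_iff_exists]
    exact ⟨e, he1, 1 - e, he2, by ring⟩
  have hinf : 𝔞 = I₁ ⊓ I₂ := by
    apply le_antisymm (le_inf le_sup_right le_sup_right)
    rintro x ⟨hx1, hx2⟩
    have h1 : x * (1 - e) ∈ 𝔞 := by
      obtain ⟨a, ha, j, hj, rfl⟩ := Submodule.mem_sup.mp hx1
      obtain ⟨c, rfl⟩ := Ideal.mem_span_singleton'.mp ha
      have : (c * e + j) * (1 - e) = c * (e - e * e) + j * (1 - e) := by ring
      rw [this, he.eq, sub_self, mul_zero, zero_add]
      exact Ideal.mul_mem_right _ _ hj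
    have h2 : x * e ∈ 𝔞 := by
      obtain ⟨a, ha, j, hj, rfl⟩ := Submodule.mem_sup.mp hx2
      obtain ⟨c, rfl⟩ := Ideal.mem_span_singleton'.mp ha
      have : (c * (1 - e) + j) * e = c * (e - e * e) + j * e := by ring
      rw [this, he.eq, sub_self, mul_zero, zero_add]
      exact Ideal.mul_mem_right _ _ hj
    have : x = x * (1 - e) + x * e := by ring
    rw [this]
    exact Ideal.add_mem _ h1 h2
  let φ : (D ⧸ 𝔞) ≃+* (D ⧸ I₁) × (D ⧸ I₂) :=
    (Ideal.quotEquivOfEq hinf).trans (Ideal.quotientInfEquivQuotientProd I₁ I₂ hcop)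
  have hφ : ∀ d : D, φ (Ideal.Quotient.mk 𝔞 d) = (Ideal.Quotient.mk I₁ d, Ideal.Quotient.mk I₂ d) :=
    fun d => rfl
  refine ⟨{ toFun := φ, map_add' := map_add φ, map_smul' := ?_, invFun := φ.symm,
            left_inv := φ.left_inv, right_inv := φ.right_inv }⟩
  intro b x
  obtain ⟨d, rfl⟩ := Ideal.Quotient.mk_surjective x
  have h1 : b • Ideal.Quotient.mk 𝔞 d = Ideal.Quotient.mk 𝔞 (b • d) := rfl
  simp only [RingHom.id_apply]
  rw [h1, hφ, hφ]
  rfl

/-- quotient by `ker μ ⊔ 𝔞` for a retraction `μ`. -/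
theorem nonempty_quot_ker_sup (μ : D →ₐ[B] B) (hμ : Function.Surjective μ) (𝔞 : Ideal D) :
    Nonempty ((D ⧸ (RingHom.ker μ ⊔ 𝔞)) ≃ₗ[B] (B ⧸ 𝔞.map μ)) := by
  let g : D →ₐ[B] B ⧸ 𝔞.map μ := (Ideal.Quotient.mkₐ B (𝔞.map μ)).comp μ
  have hg : Function.Surjective g := (Ideal.Quotient.mkₐ_surjective B _).comp hμ
  have hker : RingHom.ker g = RingHom.ker μ ⊔ 𝔞 := by
    ext x
    rw [RingHom.mem_ker]
    change Ideal.Quotient.mk _ (μ x) = 0 ↔ _
    rw [Ideal.Quotient.eq_zero_iff_mem, ← Ideal.mem_comap, Ideal.comap_map_of_surjective _ hμ,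
      sup_comm]
    rfl
  exact ⟨((Ideal.quotientEquivAlgOfEq B hker.symm).trans
    (Ideal.quotientKerAlgEquivOfSurjective hg)).toLinearEquiv⟩

end General

theorem fittingZero_eq {R : Type u} [CommRing R] (M : Type u) [AddCommGroup M] [Module R M] :
    FlatCA.fittingZero R M = Fitt.ideal R M 0 := by
  unfold FlatCA.fittingZero Fitt.ideal
  congr 1
  ext d
  simp only [Set.mem_ofPred_eq]
  constructor
  · rintro ⟨n, x, a, hx, ha, rfl⟩
    exact ⟨n, x, a, hx, fun i _ => ha i, rfl⟩
  · rintro ⟨n, x, a, hx, ha, rfl⟩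
    exact ⟨n, x, a, hx, fun i => ha i (by simp), rfl⟩

/-- quotient of a module-finitely-presented algebra by a f.g. ideal is a finitely presented module. -/
theorem finitePresentation_quot {R S : Type*} [CommRing R] [CommRing S] [Algebra R S]
    [Module.Finite R S] [Module.FinitePresentation R S] (I : Ideal S) (hI : I.FG) :
    Module.FinitePresentation R (S ⧸ I) := by
  refine Module.finitePresentation_of_surjective (Ideal.Quotient.mkₐ R I).toLinearMap
    (Ideal.Quotient.mkₐ_surjective R I) ?_
  have : LinearMap.ker (Ideal.Quotient.mkₐ R I).toLinearMap = Submodule.restrictScalars R I := by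
    ext x
    simp [Ideal.Quotient.eq_zero_iff_mem]
  rw [this]
  exact Submodule.FG.restrictScalars hI

section Main

variable {A C : Type u} [CommRing A] [CommRing C] [Algebra A C] [Module.Finite A C]
  [Module.Projective A C] (h : C) [Algebra.Etale A (Localization.Away h)] (J : Ideal C)

theorem main :
    ∃ J' : Ideal (Localization.Away h),
      (Fitt.ideal A (C ⧸ J) 0).map (algebraMap A (Localization.Away h)) =
        J.map (algebraMap C (Localization.Away h)) * J' ∧
      (J.FG → (Fitt.ideal A (C ⧸ J) 0).FG ∧ J'.FG) := by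
  haveI : Module.FinitePresentation A C := Module.finitePresentation_of_projective A C
  haveI : Algebra.FinitePresentation A C := inferInstance
  obtain ⟨e, he, hK⟩ := exists_idem (A := A) h
  let JD : Ideal ((Localization.Away h) ⊗[A] C) :=
    J.map (Algebra.TensorProduct.includeRight (R := A) (A := Localization.Away h) (B := C))
  -- step a
  let ea : (Localization.Away h) ⊗[A] (C ⧸ J) ≃ₗ[Localization.Away h]
      (((Localization.Away h) ⊗[A] C) ⧸ JD) :=
    (Algebra.TensorProduct.tensorQuotientEquiv (R := A) (Localization.Away h) C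
      (Localization.Away h) J).toLinearEquiv
  obtain ⟨eb⟩ := nonempty_quot_prod (B := Localization.Away h) e he JD
  obtain ⟨ec⟩ := nonempty_quot_ker_sup (muHom (A := A) h) (muHom_surjective h) JD
  rw [hK] at ec
  have hmap : JD.map (muHom (A := A) h) = J.map (algebraMap C (Localization.Away h)) := by
    have h1 := Ideal.map_map (I := J)
      (Algebra.TensorProduct.includeRight (R := A) (A := Localization.Away h) (B := C)).toRingHom
      (muHom (A := A) h).toRingHom
    have h2 : (muHom (A := A) h).toRingHom.comp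
        (Algebra.TensorProduct.includeRight (R := A) (A := Localization.Away h) (B := C)).toRingHom
        = algebraMap C (Localization.Away h) := by
      ext c
      simp
    rw [h2] at h1
    exact h1
  rw [hmap] at ec
  haveI : Module.Finite (Localization.Away h) ((Localization.Away h) ⊗[A] C) := inferInstance
  haveI : Module.Finite (Localization.Away h)
      (((Localization.Away h) ⊗[A] C) ⧸ (Ideal.span {1 - e} ⊔ JD)) :=
    Module.Finite.of_surjective
      (Ideal.Quotient.mkₐ (Localization.Away h) (Ideal.span {1 - e} ⊔ JD)).toLinearMap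
      (Ideal.Quotient.mkₐ_surjective (Localization.Away h) (Ideal.span {1 - e} ⊔ JD))
  haveI : Module.Finite A (C ⧸ J) :=
    Module.Finite.of_surjective (Ideal.Quotient.mkₐ A J).toLinearMap
      (Ideal.Quotient.mkₐ_surjective A J)
  refine ⟨Fitt.ideal (Localization.Away h)
    (((Localization.Away h) ⊗[A] C) ⧸ (Ideal.span {1 - e} ⊔ JD)) 0, ?_, ?_⟩
  · rw [← fitt_baseChange (Localization.Away h) 0, fitt_congr ea 0, fitt_congr eb 0,
      fitt_congr (LinearEquiv.prodCongr ec (LinearEquiv.refl _ _)) 0, fitt_zero_quot_prod]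
  · intro hJ
    constructor
    · haveI := finitePresentation_quot (R := A) J hJ
      exact (Groth.Agent.S6892.result (C ⧸ J) (C ⧸ J) 0).2.1 inferInstance
    · haveI : Module.FinitePresentation (Localization.Away h) ((Localization.Away h) ⊗[A] C) :=
        inferInstance
      have hfg : (Ideal.span {1 - e} ⊔ JD).FG :=
        Submodule.FG.sup ⟨{1 - e}, by simp⟩ (hJ.map _)
      haveI := finitePresentation_quot (R := Localization.Away h) _ hfg
      exact (Groth.Agent.S6892.result
        (((Localization.Away h) ⊗[A] C) ⧸ (Ideal.span {1 - e} ⊔ JD))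
        (((Localization.Away h) ⊗[A] C) ⧸ (Ideal.span {1 - e} ⊔ JD)) 0).2.1 inferInstance

end Main

end Groth.Agent.Lib.Helper1.FittEtale
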