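import Mathlib
import Groth.Agent.Lib.Helper1.FittEtale.Decomp

/-!
# Stacks 0813: étale-local factorisation `I B_g = J B_g · J'` (helper1)
-/

set_option autoImplicit false
set_option linter.style.haveILetI false

namespace Groth.Agent.Lib.Helper1.FittEtale

open TensorProduct Groth.Agent.Lib.Helper10.Fitting

universe u

/-- A finitely generated ideal of a localization is extended from a finitely generated ideal. -/
theorem exists_fg_map_eq {R : Type*} [CommRing R] (M : Submonoid R) (S : Type*) [CommRing S]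
    [Algebra R S] [IsLocalization M S] (I : Ideal S) (hI : I.FG) :
    ∃ I₀ : Ideal R, I₀.FG ∧ I₀.map (algebraMap R S) = I := by
  classical
  obtain ⟨s, rfl⟩ := hI
  have hch : ∀ x : S, ∃ r : R, ∃ m : M, x * algebraMap R S m = algebraMap R S r := fun x => by
    obtain ⟨⟨r, m⟩, h⟩ := IsLocalization.surj M x
    exact ⟨r, m, h⟩
  choose r m hrm using hch
  refine ⟨Ideal.span (s.image r : Finset R), ⟨_, rfl⟩, ?_⟩
  rw [Ideal.map_span]
  apply le_antisymm
  · rw [Ideal.span_le]
    rintro _ ⟨y, hy, rfl⟩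
    rw [Finset.coe_image] at hy
    obtain ⟨x, hx, rfl⟩ := hy
    rw [← hrm x]
    exact Ideal.mul_mem_right _ _ (Ideal.subset_span hx)
  · rw [Ideal.span_le]
    intro x hx
    have hu : IsUnit (algebraMap R S (m x)) := IsLocalization.map_units S (m x)
    obtain ⟨u, hu⟩ := hu
    have : x = algebraMap R S (r x) * ((u⁻¹ : Sˣ) : S) := by
      rw [← hrm x, ← hu, mul_assoc, Units.mul_inv, mul_one]
    rw [SetLike.mem_coe, this]
    apply Ideal.mul_mem_right
    apply Ideal.subset_span
    exact ⟨r x, by rw [Finset.coe_image]; exact ⟨x, hx, rfl⟩, rfl⟩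

/-- If `a ^ n` kills the finite module `M`, then `a` lies in the radical of `Fit_0(M)`. -/
theorem mem_radical_fitt_zero {R : Type*} [CommRing R] {M : Type*} [AddCommGroup M] [Module R M]
    [Module.Finite R M] (a : R) (n : ℕ) (h : ∀ x : M, a ^ n • x = 0) :
    a ∈ (Fitt.ideal R M 0).radical := by
  classical
  obtain ⟨d, x, hx⟩ := Module.Finite.exists_fin (R := R) (M := M)
  refine ⟨n * d, ?_⟩
  have := det_mem_fitt x hx 0 ((a ^ n) • (1 : Matrix (Fin d) (Fin d) R)) (by
    intro i _
    simp [Matrix.one_apply, h])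
  rw [Matrix.det_smul, Matrix.det_one, mul_one, Fintype.card_fin, ← pow_mul] at this
  exact this

theorem etale_main {A B : Type u} [CommRing A] [CommRing B] [Algebra A B] [Algebra.Etale A B]
    (a : A) (J : Ideal B) (hJ : J.FG) (hJa : algebraMap A B a ∈ J.radical)
    (q : Ideal B) [q.IsPrime] :
    ∃ (I : Ideal A) (g : B) (J' : Ideal (Localization.Away g)), I.FG ∧ a ∈ I.radical ∧ g ∉ q ∧
      J'.FG ∧ I.map (algebraMap A (Localization.Away g)) =
        J.map (algebraMap B (Localization.Away g)) * J' := by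
  obtain ⟨g, hgq, hstd⟩ := Algebra.IsEtaleAt.exists_isStandardEtale (R := A) q
  let P : StandardEtalePresentation A (Localization.Away g) :=
    hstd.nonempty_standardEtalePresentation.some
  let h : AdjoinRoot P.f := AdjoinRoot.mk P.f P.g
  let ε : Localization.Away g ≃ₐ[A] Localization.Away h :=
    P.equivRing.trans P.P.equivAwayAdjoinRoot
  haveI : Algebra.Etale A (Localization.Away g) := inferInstance
  haveI : Algebra.Etale A (Localization.Away h) := Algebra.Etale.of_equiv ε
  haveI : Module.Finite A (AdjoinRoot P.f) := P.monic_f.finite_adjoinRoot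
  haveI : Module.Free A (AdjoinRoot P.f) := P.monic_f.free_adjoinRoot
  obtain ⟨n, hn⟩ := hJa
  -- the ideal `J₁` of `C_h`
  set Jg : Ideal (Localization.Away g) := J.map (algebraMap B (Localization.Away g)) with hJg
  have hJgfg : Jg.FG := hJ.map _
  set J₁ : Ideal (Localization.Away h) := Jg.map ε.toRingEquiv.toRingHom with hJ₁
  have hJ₁fg : J₁.FG := hJgfg.map _
  obtain ⟨I₀, hI₀fg, hI₀⟩ := exists_fg_map_eq (Submonoid.powers h) (Localization.Away h) J₁ hJ₁fg
  set an : AdjoinRoot P.f := algebraMap A (AdjoinRoot P.f) (a ^ n) with han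
  set JC : Ideal (AdjoinRoot P.f) := I₀ ⊔ Ideal.span {an} with hJC
  have hJCfg : JC.FG := Submodule.FG.sup hI₀fg ⟨{an}, by simp⟩
  have han₁ : algebraMap (AdjoinRoot P.f) (Localization.Away h) an ∈ J₁ := by
    have h1 : algebraMap (AdjoinRoot P.f) (Localization.Away h) an =
        ε (algebraMap B (Localization.Away g) (algebraMap A B a ^ n)) := by
      rw [han, ← IsScalarTower.algebraMap_apply, ← map_pow, ← IsScalarTower.algebraMap_apply,
        AlgEquiv.commutes]
    rw [h1, hJ₁]
    exact Ideal.mem_map_of_mem _ (Ideal.mem_map_of_mem _ hn)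
  have hJCmap : JC.map (algebraMap (AdjoinRoot P.f) (Localization.Away h)) = J₁ := by
    rw [hJC, Ideal.map_sup, hI₀, Ideal.map_span, Set.image_singleton, sup_eq_left,
      Ideal.span_singleton_le_iff_mem]
    exact han₁
  obtain ⟨J'', hJ''eq, hJ''fg⟩ := main (A := A) h JC
  obtain ⟨hIfg, hJ''fg⟩ := hJ''fg hJCfg
  haveI : Module.Finite A (AdjoinRoot P.f ⧸ JC) :=
    Module.Finite.of_surjective (Ideal.Quotient.mkₐ A JC).toLinearMap
      (Ideal.Quotient.mkₐ_surjective A JC)
  refine ⟨Fitt.ideal A (AdjoinRoot P.f ⧸ JC) 0, g, J''.map ε.symm.toRingEquiv.toRingHom,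
    hIfg, ?_, hgq, hJ''fg.map _, ?_⟩
  · apply mem_radical_fitt_zero a n
    intro x
    obtain ⟨c, rfl⟩ := Ideal.Quotient.mk_surjective x
    have hsm : a ^ n • (Ideal.Quotient.mk JC) c = Ideal.Quotient.mk JC (a ^ n • c) := rfl
    rw [hsm, Ideal.Quotient.eq_zero_iff_mem, Algebra.smul_def]
    exact Ideal.mul_mem_right _ _ (Ideal.mem_sup_right (Ideal.subset_span rfl))
  · rw [hJCmap] at hJ''eq
    have h1 := congrArg (Ideal.map ε.symm.toRingEquiv.toRingHom) hJ''eq
    rw [Ideal.map_mul, Ideal.map_map, hJ₁, Ideal.map_map] at h1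
    have h2 : ε.symm.toRingEquiv.toRingHom.comp (algebraMap A (Localization.Away h)) =
        algebraMap A (Localization.Away g) := by
      ext x
      simp
    have h3 : ε.symm.toRingEquiv.toRingHom.comp ε.toRingEquiv.toRingHom =
        RingHom.id (Localization.Away g) := by
      ext x
      simp
    rw [h2, h3, Ideal.map_id] at h1
    exact h1

end Groth.Agent.Lib.Helper1.FittEtale
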